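import Groth.Agent.Lib.Helper18.GeomFib.SepClosed

set_option autoImplicit false
set_option linter.style.haveILetI false
universe u
open AlgebraicGeometry CategoryTheory CategoryTheory.Limits TensorProduct

namespace Groth.Agent.Lib.Helper18.GeomFib

variable {X Y X' Y' : Scheme.{u}} (f : X ⟶ Y) (f' : X' ⟶ Y') (g' : X' ⟶ X) (g : Y' ⟶ Y)

/-- The geometric fibre as a pullback of `f`. -/
theorem isPullback_geomFiber (y : Y) :
    IsPullback
      (pullback.fst (f.fiberToSpecResidueField y) (Spec.map (CommRingCat.ofHom
        (algebraMap (Y.residueField y) (SeparableClosure (Y.residueField y))))) ≫ f.fiberι y)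
      (pullback.snd (f.fiberToSpecResidueField y) (Spec.map (CommRingCat.ofHom
        (algebraMap (Y.residueField y) (SeparableClosure (Y.residueField y))))))
      f
      (Spec.map (CommRingCat.ofHom
        (algebraMap (Y.residueField y) (SeparableClosure (Y.residueField y)))) ≫
          Y.fromSpecResidueField y) :=
  (IsPullback.of_hasPullback _ _).paste_horiz
    (IsPullback.of_hasPullback f (Y.fromSpecResidueField y))

/-- A pullback over a composite base map factors through the pullback over the second map. -/
theorem exists_lift_isPullback {C : Type*} [Category C] {G G' X Y S S' : C} {a : G ⟶ X}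
    {b : G ⟶ S} {f : X ⟶ Y} {c : S ⟶ Y} (PG : IsPullback a b f c) {a' : G' ⟶ X} {b' : G' ⟶ S'}
    {c' : S' ⟶ Y} (PG' : IsPullback a' b' f c') (t : S' ⟶ S) (ht : c' = t ≫ c) :
    ∃ π : G' ⟶ G, IsPullback π b' b t := by
  subst ht
  have hw : a' ≫ f = (b' ≫ t) ≫ c := by rw [Category.assoc]; exact PG'.w
  refine ⟨PG.lift a' (b' ≫ t) hw, IsPullback.of_right ?_ (PG.lift_snd _ _ hw) PG⟩
  rw [PG.lift_fst]
  exact PG'

/-- The geometric fibre of a base change is a base change of the geometric fibre along an extension
of separably closed fields. -/
theorem exists_isPullback_geomFiber (hc : IsPullback g' f' f g) (y' : Y') :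
    ∃ (ψ : SeparableClosure (Y.residueField (g y')) →+* SeparableClosure (Y'.residueField y'))
      (π : MoreMor.geomFiber f' y' ⟶ MoreMor.geomFiber f (g y')),
      IsPullback π
        (pullback.snd (f'.fiberToSpecResidueField y') (Spec.map (CommRingCat.ofHom
          (algebraMap (Y'.residueField y') (SeparableClosure (Y'.residueField y'))))))
        (pullback.snd (f.fiberToSpecResidueField (g y')) (Spec.map (CommRingCat.ofHom
          (algebraMap (Y.residueField (g y')) (SeparableClosure (Y.residueField (g y')))))))
        (Spec.map (CommRingCat.ofHom ψ)) := by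
  let φ : Y.residueField (g y') →+* Y'.residueField y' := (g.residueFieldMap y').hom
  letI : Algebra (Y.residueField (g y')) (SeparableClosure (Y'.residueField y')) :=
    ((algebraMap (Y'.residueField y') (SeparableClosure (Y'.residueField y'))).comp φ).toAlgebra
  let ψ : SeparableClosure (Y.residueField (g y')) →ₐ[Y.residueField (g y')]
    SeparableClosure (Y'.residueField y') := IsSepClosed.lift
  refine ⟨ψ.toRingHom, ?_⟩
  have PG := isPullback_geomFiber f (g y')
  have PG' := (isPullback_geomFiber f' y').paste_horiz hc
  refine exists_lift_isPullback PG PG' (Spec.map (CommRingCat.ofHom ψ.toRingHom)) ?_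
  rw [Category.assoc, ← Scheme.Hom.SpecMap_residueFieldMap_fromSpecResidueField,
    ← Category.assoc, ← Category.assoc, ← Spec.map_comp, ← Spec.map_comp]
  congr 2
  refine CommRingCat.hom_ext (RingHom.ext fun a => ?_)
  have h1 : ψ (algebraMap (Y.residueField (g y')) (SeparableClosure (Y.residueField (g y'))) a) =
      algebraMap (Y'.residueField y') (SeparableClosure (Y'.residueField y')) (φ a) := ψ.commutes a
  exact h1.symm

end Groth.Agent.Lib.Helper18.GeomFib
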