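import Groth.Agent.Lib.Helper18.GeomFib.BaseChange

set_option autoImplicit false
set_option linter.style.haveILetI false
universe u
open AlgebraicGeometry CategoryTheory CategoryTheory.Limits TensorProduct

namespace Groth.Agent.Lib.Helper18.GeomFib

variable {X Y X' Y' : Scheme.{u}} (f : X ⟶ Y) (f' : X' ⟶ Y') (g' : X' ⟶ X) (g : Y' ⟶ Y)

/-- The comparison map of geometric fibres is geometrically irreducible and universally open. -/
theorem exists_geomFiber_map (hc : IsPullback g' f' f g) (y' : Y') :
    ∃ π : MoreMor.geomFiber f' y' ⟶ MoreMor.geomFiber f (g y'),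
      GeometricallyIrreducible π ∧ UniversallyOpen π := by
  obtain ⟨ψ, π, hπ⟩ := exists_isPullback_geomFiber f f' g' g hc y'
  refine ⟨π, ?_, ?_⟩
  · letI := ψ.toAlgebra
    haveI : GeometricallyIrreducible (Spec.map (CommRingCat.ofHom ψ)) :=
      geometricallyIrreducible_specMap (k := SeparableClosure (Y.residueField (g y')))
        (K := SeparableClosure (Y'.residueField y'))
    exact MorphismProperty.of_isPullback (P := @GeometricallyIrreducible) hπ.flip inferInstance
  · haveI : Subsingleton ↥(Spec (CommRingCat.of (SeparableClosure (Y.residueField (g y'))))) :=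
      inferInstanceAs (Subsingleton (PrimeSpectrum (SeparableClosure (Y.residueField (g y')))))
    haveI : UniversallyOpen (Spec.map (CommRingCat.ofHom ψ)) := inferInstance
    exact MorphismProperty.of_isPullback (P := @UniversallyOpen) hπ.flip inferInstance

theorem nGeomIrredComp_eq (hc : IsPullback g' f' f g) (y' : Y') :
    MoreMor.nGeomIrredComp f' y' = MoreMor.nGeomIrredComp f (g y') := by
  obtain ⟨π, h1, h2⟩ := exists_geomFiber_map f f' g' g hc y'
  unfold MoreMor.nGeomIrredComp
  exact Set.encard_congr (π.irreducibleComponentsEquiv π.isOpenMap)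

theorem nGeomConnComp_eq (hc : IsPullback g' f' f g) (y' : Y') :
    MoreMor.nGeomConnComp f' y' = MoreMor.nGeomConnComp f (g y') := by
  obtain ⟨π, h1, h2⟩ := exists_geomFiber_map f f' g' g hc y'
  haveI := geometricallyConnected_of_geometricallyIrreducible π
  unfold MoreMor.nGeomConnComp
  exact ENat.card_congr (π.connectedComponentsHomeomorph π.isOpenMap).toEquiv

end Groth.Agent.Lib.Helper18.GeomFib
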