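import Mathlib
import Groth.Prelude.Def_MoreMor
import Groth.Agent.Lib.Helper22.GeomIrr

set_option autoImplicit false
set_option linter.style.haveILetI false
universe u
open AlgebraicGeometry CategoryTheory CategoryTheory.Limits TensorProduct

namespace Groth.Agent.Lib.Helper18.GeomFib

/-- Over a separably closed field `k`, `Spec K ⟶ Spec k` is geometrically irreducible for
every field extension `K/k`. -/
theorem geometricallyIrreducible_specMap {k K : Type u} [Field k] [IsSepClosed k] [Field K]
    [Algebra k K] :
    GeometricallyIrreducible (Spec.map (CommRingCat.ofHom (algebraMap k K))) := by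
  rw [GeometricallyIrreducible.eq_geometrically,
    geometrically_iff_of_commRing_of_isClosedUnderIsomorphisms]
  intro K' _ _
  rw [(pullbackSpecIso k K K').hom.homeomorph.irreducibleSpace_iff]
  haveI : IrreducibleSpace (PrimeSpectrum K') := inferInstance
  exact (Groth.Agent.Lib.Helper22.GeomIrr.geomIrr_of_isSepClosed (k := k) (S := K') K :
    IrreducibleSpace (PrimeSpectrum (K ⊗[k] K')))

/-- Geometrically irreducible morphisms are geometrically connected. -/
theorem geometricallyConnected_of_geometricallyIrreducible {X Y : Scheme.{u}} (f : X ⟶ Y)
    [GeometricallyIrreducible f] : GeometricallyConnected f := by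
  rw [geometricallyConnected_iff]
  have h := (geometricallyIrreducible_iff f).1 inferInstance
  intro K _ y Z fst snd hp
  haveI : IrreducibleSpace ↥Z := h y fst snd hp
  show ConnectedSpace ↥Z
  infer_instance

end Groth.Agent.Lib.Helper18.GeomFib
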